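import Groth.Agent.HTopSheaf.Over
import Groth.Agent.HTopPh.FPLimit

/-! The criteria for ph and h sheaves: Zariski descent and descent along proper surjective morphisms. -/

set_option autoImplicit false
set_option linter.style.haveILetI false
set_option backward.isDefEq.respectTransparency false
set_option backward.isDefEq.respectTransparency.types false

universe w w' u
open CategoryTheory CategoryTheory.Limits AlgebraicGeometry Opposite

noncomputable section

namespace Groth.Agent.HTopSheaf

open Groth.Agent.HTopV Groth.Agent.HTopPh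

/-- Descent along proper surjective morphisms of finite presentation onto affine schemes over `S`. -/
def ProperCond (S : Scheme.{u}) (G : (Over S)ᵒᵖ ⥤ Type w) : Prop :=
  ∀ (U V : Over S) (f : V ⟶ U), IsAffine U.left → IsProper f.left → Surjective f.left →
    LocallyOfFinitePresentation f.left → Presieve.IsSheafFor G (Presieve.singleton f)

variable {S : Scheme.{u}} {G : (Over S)ᵒᵖ ⥤ Type w}

theorem isPullback_over {X Y P V : Over S} (f : V ⟶ X) (g : Y ⟶ X) (a : P ⟶ V) (q : P ⟶ Y)
    (h : IsPullback a.left q.left f.left g.left) : IsPullback a q f g :=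
  IsPullback.of_map (Over.forget S) (Over.OverMorphism.ext h.w) h

theorem singleton_mem_fin_of_proper (hG : Presieve.IsSheaf (Scheme.zariskiTopology.over S) G) (hP : ProperCond S G)
    {X V : Over S} (f : V ⟶ X) [IsProper f.left] [Surjective f.left] [LocallyOfFinitePresentation f.left] :
    Sieve.generate (Presieve.singleton f) ∈ Fin' G X := by
  refine singleton_mem_fin hG (hasBase_over S) f fun W g hW => ?_
  let P : Over S := Over.mk (pullback.snd f.left g.left ≫ W.hom)
  let a : P ⟶ V := Over.homMk (pullback.fst f.left g.left) (by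
    show pullback.fst f.left g.left ≫ V.hom = pullback.snd f.left g.left ≫ W.hom
    rw [← Over.w f, pullback.condition_assoc, Over.w g])
  let q : P ⟶ W := Over.homMk (pullback.snd f.left g.left) rfl
  exact ⟨P, a, q, isPullback_over f g a q (IsPullback.of_hasPullback _ _), hP W P q hW
    (MorphismProperty.pullback_snd (P := @IsProper) _ _ ‹_›) (MorphismProperty.pullback_snd (P := @Surjective) _ _ ‹_›)
    (MorphismProperty.pullback_snd (P := @LocallyOfFinitePresentation) _ _ ‹_›)⟩

/-- The sieve of a cover of a universally effective morphism by opens is universally effective. -/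
theorem mem_fin_of_open_factor (hG : Presieve.IsSheaf (Scheme.zariskiTopology.over S) G) {X V : Over S} (f : V ⟶ X)
    (hf : Sieve.generate (Presieve.singleton f) ∈ Fin' G X) (T : Sieve X) {ι : Type w'} (O : ι → V.left.Opens)
    (hO : ∀ x : V.left, ∃ i, x ∈ O i) (h : ∀ i, T (openOverι V (O i) ≫ f)) : T ∈ Fin' G X := by
  refine mem_fin_of_singleton f hf ((Fin' G).superset_covering ?_ (mem_fin_of_mem hG
    (?_ : Sieve.ofArrows (fun i => openOver V (O i)) (fun i => openOverι V (O i)) ∈
      (Scheme.zariskiTopology.over S) V)))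
  · rw [Sieve.generate_le_iff, Presieve.ofArrows_le_iff]
    exact h
  · rw [GrothendieckTopology.mem_over_iff, Sieve.overEquiv_ofArrows]
    haveI : ∀ i, IsOpenImmersion (openOverι V (O i)).left := fun i => inferInstanceAs (IsOpenImmersion (O i).ι)
    exact ofArrows_openImmersion_mem _ _ fun x => ⟨(hO x).choose, ⟨x, (hO x).choose_spec⟩, rfl⟩

/-- A Zariski sheaf with descent along proper surjective morphisms of finite presentation treats every pullback
of an h covering as a covering. -/
theorem hCover_mem_fin (hG : Presieve.IsSheaf (Scheme.zariskiTopology.over S) G) (hP : ProperCond S G)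
    {X : Scheme.{u}} (E : PreZeroHypercover.{w'} X) (hE : HTop.IsHCover E) (Y : Over S) (f : Y.left ⟶ X) :
    (Sieve.overEquiv Y).symm ((Sieve.generate E.presieve₀).pullback f) ∈ Fin' G Y := by
  refine mem_fin_of_affineOpens hG _ fun U => ?_
  obtain ⟨F, hF, hlfp, hr⟩ := exists_standard_lfp_refining (E := E.pullback₁ f)
    (fun i => MorphismProperty.pullback_fst (P := @LocallyOfFinitePresentation) _ _ (hE.1 i))
    (isVCover_pullback₁ f hE.2) U
  haveI := hF.finite_index
  haveI : IsAffine (U.1 : Scheme.{u}) := U.2
  haveI := hF.isAffine_obj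
  haveI := hlfp
  obtain ⟨P, g, n, V, hg, hgs, hgl, -, hcov, hl⟩ := exists_proper_affineCover_refining F.X F.f hF.lift
  let Z : Over S := openOver Y U.1
  let P' : Over S := Over.mk (g ≫ Z.hom)
  let g' : P' ⟶ Z := Over.homMk g rfl
  haveI : IsProper g'.left := hg
  haveI : Surjective g'.left := hgs
  haveI : LocallyOfFinitePresentation g'.left := hgl
  refine mem_fin_of_open_factor hG g' (singleton_mem_fin_of_proper hG hP g') _ (fun j => V j)
    (fun x => TopologicalSpace.Opens.mem_iSup.1 (hcov.ge (Set.mem_univ x))) fun j => ?_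
  obtain ⟨i, k, hk⟩ := hl j
  obtain ⟨i', l, hlr⟩ := hr i
  rw [Sieve.pullback_apply, Sieve.overEquiv_symm_iff]
  let l' : F.X i ⟶ pullback f (E.f i') := l
  have hl' : l' ≫ pullback.fst f (E.f i') = F.f i ≫ U.1.ι := hlr
  refine ⟨_, k ≫ l' ≫ pullback.snd f (E.f i'), E.f i', ⟨i'⟩, ?_⟩
  simp only [Category.assoc, ← pullback.condition, Over.comp_left, reassoc_of% hl', reassoc_of% hk]
  rfl

theorem isSheaf_Jh_of (hG : Presieve.IsSheaf (Scheme.zariskiTopology.over S) G) (hP : ProperCond S G) :
    Presieve.IsSheaf (HTop.Jh S) G :=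
  isSheaf_over_toGrothendieck fun X R hR Y f => by
    obtain ⟨E, hE, rfl⟩ := (PreZeroHypercoverFamily.mem_precoverage_iff).mp hR
    exact hCover_mem_fin hG hP E hE Y f

theorem isHCover_openCover {X : Scheme.{u}} (𝒰 : X.OpenCover) : HTop.IsHCover 𝒰.toPreZeroHypercover := by
  haveI : QuasiCompactCover 𝒰.toPreZeroHypercover := inferInstance
  exact ⟨fun i => inferInstanceAs (LocallyOfFinitePresentation (𝒰.f i)),
    isVCover_of_flat_of_quasiCompactCover 𝒰.toPreZeroHypercover fun i => show Flat (𝒰.f i) from inferInstance⟩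

theorem zariski_le_hTopology : Scheme.zariskiTopology.{u} ≤ HTop.hTopology.{u} := by
  refine Precoverage.toGrothendieck_le_iff_le_toPrecoverage.2 fun X R hR => ?_
  obtain ⟨𝒰, rfl⟩ := Precoverage.mem_iff_exists_zeroHypercover.1 hR
  exact Precoverage.generate_mem_toGrothendieck
    ((HTop.presieve₀_mem_hPrecoverage_iff _).2 (isHCover_openCover 𝒰))

theorem isHCover_singleton_of_proper {X V : Scheme.{u}} (f : V ⟶ X) [IsProper f] [Surjective f]
    [LocallyOfFinitePresentation f] : HTop.IsHCover (PreZeroHypercover.singleton.{w'} f) :=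
  haveI : Finite (PreZeroHypercover.singleton.{w'} f).I₀ := inferInstanceAs (Finite PUnit.{w' + 1})
  ⟨fun _ => ‹LocallyOfFinitePresentation f›, isVCover_of_hasValLift _ (fun _ => inferInstanceAs (QuasiCompact f))
    (hasValLift_singleton_of_universallyClosed f)⟩

theorem singleton_mem_Jh {X V : Over S} (f : V ⟶ X)
    (h : HTop.IsHCover (PreZeroHypercover.singleton.{0} f.left)) :
    Sieve.generate (Presieve.singleton f) ∈ HTop.Jh S X := by
  rw [GrothendieckTopology.mem_over_iff, overEquiv_generate_presieve, Presieve.map_singleton]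
  refine Precoverage.generate_mem_toGrothendieck ?_
  have := (HTop.presieve₀_mem_hPrecoverage_iff _).2 h
  rwa [PreZeroHypercover.presieve₀_singleton] at this

theorem isSheaf_Jh_iff :
    Presieve.IsSheaf (HTop.Jh S) G ↔ Presieve.IsSheaf (Scheme.zariskiTopology.over S) G ∧ ProperCond S G := by
  refine ⟨fun h => ⟨fun X T hT => h T (zariski_le_hTopology _ hT), fun U V f _ _ _ _ => ?_⟩,
    fun h => isSheaf_Jh_of h.1 h.2⟩
  exact (Presieve.isSheafFor_iff_generate _).2 (h _ (singleton_mem_Jh f (isHCover_singleton_of_proper f.left)))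

end Groth.Agent.HTopSheaf
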