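import Groth.Agent.HTopSheaf.Criteria
import Groth.Agent.FlatLocus.FibreCrit

/-! Descent along a square which is an isomorphism away from a closed subscheme. -/

set_option autoImplicit false
set_option linter.style.haveILetI false
set_option backward.isDefEq.respectTransparency false
set_option backward.isDefEq.respectTransparency.types false

universe w u
open CategoryTheory CategoryTheory.Limits AlgebraicGeometry Opposite

noncomputable section

namespace Groth.Agent.HTopSheaf

open Groth.Agent.HTopV Groth.Agent.HTopPh

variable {S : Scheme.{u}} {G : (Over S)ᵒᵖ ⥤ Type w}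

/-- Two jointly surjective closed immersions of finite presentation cover for the h topology. -/
theorem closedPair_mem_Jh {W : Over S} (A : Bool → Over S) (a : ∀ b, A b ⟶ W) [∀ b, IsClosedImmersion (a b).left]
    [∀ b, LocallyOfFinitePresentation (a b).left] (h : ∀ w : W.left, ∃ b, w ∈ Set.range (a b).left) :
    Sieve.ofArrows A a ∈ HTop.Jh S W := by
  rw [GrothendieckTopology.mem_over_iff, Sieve.overEquiv_ofArrows]
  let E : PreZeroHypercover.{0} W.left := ⟨Bool, fun b => (A b).left, fun b => (a b).left⟩
  refine Precoverage.generate_mem_toGrothendieck ((HTop.presieve₀_mem_hPrecoverage_iff E).2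
    ⟨fun b => inferInstanceAs (LocallyOfFinitePresentation (a b).left), ?_⟩)
  haveI : Finite E.I₀ := inferInstanceAs (Finite Bool)
  refine isVCover_of_hasValLift E (fun b => inferInstanceAs (QuasiCompact (a b).left)) ?_
  intro V _ _ g
  obtain ⟨b, hb⟩ := h (g (genPt V))
  obtain ⟨V', hd, hv, φ, hφ, x, hx⟩ : ∃ (V' : CommRingCat.{u}) (_ : IsDomain V') (_ : ValuationRing V') (φ : V ⟶ V'),
      HTop.IsExtVal V V' φ ∧ ∃ x : Spec V' ⟶ (A b).left, x ≫ (a b).left = Spec.map φ ≫ g := by
    let q := pullback.snd (a b).left g
    haveI : Surjective q := ⟨fun p => by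
      have hp : g (genPt V) ⤳ g p := (genPt_specializes V p).map g.continuous
      obtain ⟨z, hz⟩ := hp.mem_closed (a b).left.isClosedEmbedding.isClosed_range hb
      obtain ⟨z', -, hz'⟩ := Scheme.Pullback.exists_preimage_pullback (f := (a b).left) (g := g) z p hz
      exact ⟨z', hz'⟩⟩
    obtain ⟨V', hd, hv, φ, hφ, _, x, hx⟩ := hasValLift_singleton_of_universallyClosed.{0} q V (𝟙 (Spec V))
    refine ⟨V', hd, hv, φ, hφ, x ≫ pullback.fst (a b).left g, ?_⟩
    rw [Category.assoc, pullback.condition, ← Category.assoc, show x ≫ q = Spec.map φ ≫ 𝟙 _ from hx, Category.comp_id]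
  exact ⟨V', hd, hv, φ, hφ, b, x, hx⟩

/-- An h sheaf turns a square which is an isomorphism away from a closed subscheme into a cartesian square. -/
theorem existsUnique_of_square (hG : Presieve.IsSheaf (HTop.Jh S) G)
    {E Z X Y : Over S} (e : E ⟶ X) (π : E ⟶ Z) (f : X ⟶ Y) (i : Z ⟶ Y)
    [IsProper f.left] [Surjective f.left] [LocallyOfFinitePresentation f.left]
    [IsClosedImmersion i.left] [LocallyOfFinitePresentation i.left]
    (hsq : IsPullback e.left π.left f.left i.left)
    (U : Y.left.Opens) (hU : (U : Set Y.left) = (Set.range i.left)ᶜ) (hiso : IsIso (f.left ∣_ U))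
    (t : G.obj (op Z)) (s' : G.obj (op X)) (hts : G.map π.op t = G.map e.op s') :
    ∃! s : G.obj (op Y), G.map i.op s = t ∧ G.map f.op s = s' := by
  haveI : IsProper π.left := MorphismProperty.of_isPullback (P := @IsProper) hsq ‹_›
  haveI : Surjective π.left := MorphismProperty.of_isPullback (P := @Surjective) hsq ‹_›
  haveI : LocallyOfFinitePresentation π.left := MorphismProperty.of_isPullback (P := @LocallyOfFinitePresentation) hsq ‹_›
  have hπ : Presieve.IsSheafFor G (Presieve.singleton π) :=
    (Presieve.isSheafFor_iff_generate _).2 (hG _ (singleton_mem_Jh π (isHCover_singleton_of_proper π.left)))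
  have hf : Presieve.IsSheafFor G (Presieve.singleton f) :=
    (Presieve.isSheafFor_iff_generate _).2 (hG _ (singleton_mem_Jh f (isHCover_singleton_of_proper f.left)))
  have hcomp : ∀ {W : Over S} (p₁ p₂ : W ⟶ X), p₁ ≫ f = p₂ ≫ f → G.map p₁.op s' = G.map p₂.op s' := by
    intro W p₁ p₂ hp
    let g : W.left ⟶ Y.left := (p₁ ≫ f).left
    let z := pullback.fst g i.left
    let d := pullback.lift p₁.left p₂.left (show p₁.left ≫ f.left = p₂.left ≫ f.left from congrArg Over.Hom.left hp)
    let c := pullback.fst d (pullback.diagonal f.left)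
    let A : Bool → Over S := fun b => bif b then Over.mk (z ≫ W.hom) else Over.mk (c ≫ W.hom)
    let a : ∀ b, A b ⟶ W := fun b => match b with
      | true => Over.homMk z rfl
      | false => Over.homMk c rfl
    haveI : ∀ b, IsClosedImmersion (a b).left := fun b => by
      cases b
      · exact MorphismProperty.pullback_fst (P := @IsClosedImmersion) _ _ inferInstance
      · exact MorphismProperty.pullback_fst (P := @IsClosedImmersion) _ _ inferInstance
    haveI : LocallyOfFinitePresentation (pullback.diagonal f.left ≫ pullback.fst f.left f.left) := by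
      rw [pullback.diagonal_fst]; infer_instance
    haveI : LocallyOfFinitePresentation (pullback.diagonal f.left) :=
      FlatLocus.locallyOfFinitePresentation_of_comp _ (pullback.fst f.left f.left)
    haveI : ∀ b, LocallyOfFinitePresentation (a b).left := fun b => by
      cases b
      · exact MorphismProperty.pullback_fst (P := @LocallyOfFinitePresentation) _ _ inferInstance
      · exact MorphismProperty.pullback_fst (P := @LocallyOfFinitePresentation) _ _ inferInstance
    have hsurj : ∀ w : W.left, ∃ b, w ∈ Set.range (a b).left := by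
      intro w
      by_cases hw : g w ∈ Set.range i.left
      · obtain ⟨z₀, hz₀⟩ := hw
        obtain ⟨v, hv, -⟩ := Scheme.Pullback.exists_preimage_pullback (f := g) (g := i.left) w z₀ hz₀.symm
        exact ⟨true, v, hv⟩
      · have hgU : g w ∈ U := by
          show g w ∈ (U : Set Y.left); rw [hU]; exact hw
        let O : W.left.Opens := g ⁻¹ᵁ U
        have h₁ : ∀ y, (O.ι ≫ p₁.left) y ∈ f.left ⁻¹ᵁ U := fun y => y.2
        have h₂ : ∀ y, (O.ι ≫ p₂.left) y ∈ f.left ⁻¹ᵁ U := fun y => by
          show ((O.ι ≫ p₂.left) ≫ f.left) y ∈ U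
          rw [Category.assoc, show p₂.left ≫ f.left = g from congrArg Over.Hom.left hp.symm]
          exact y.2
        let l₁ := IsOpenImmersion.lift (f.left ⁻¹ᵁ U).ι (O.ι ≫ p₁.left) (by rintro _ ⟨y, rfl⟩; rw [Scheme.Opens.range_ι]; exact h₁ y)
        let l₂ := IsOpenImmersion.lift (f.left ⁻¹ᵁ U).ι (O.ι ≫ p₂.left) (by rintro _ ⟨y, rfl⟩; rw [Scheme.Opens.range_ι]; exact h₂ y)
        have hl : l₁ = l₂ := by
          rw [← cancel_mono (f.left ∣_ U), ← cancel_mono U.ι, Category.assoc, Category.assoc, morphismRestrict_ι,
            IsOpenImmersion.lift_fac_assoc, IsOpenImmersion.lift_fac_assoc, Category.assoc, Category.assoc]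
          exact congrArg (O.ι ≫ ·) (congrArg Over.Hom.left hp)
        have he : O.ι ≫ p₁.left = O.ι ≫ p₂.left := by
          rw [← IsOpenImmersion.lift_fac (f.left ⁻¹ᵁ U).ι (O.ι ≫ p₁.left)
              (by rintro _ ⟨y, rfl⟩; rw [Scheme.Opens.range_ι]; exact h₁ y),
            ← IsOpenImmersion.lift_fac (f.left ⁻¹ᵁ U).ι (O.ι ≫ p₂.left)
              (by rintro _ ⟨y, rfl⟩; rw [Scheme.Opens.range_ι]; exact h₂ y)]
          exact congrArg (· ≫ _) hl
        let r : O.toScheme ⟶ pullback d (pullback.diagonal f.left) := pullback.lift O.ι (O.ι ≫ p₁.left) (by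
          apply pullback.hom_ext <;> simp [d, he])
        exact ⟨false, r ⟨w, hgU⟩, by
          show c (r ⟨w, hgU⟩) = w
          rw [← Scheme.Hom.comp_apply, show r ≫ c = O.ι from pullback.lift_fst _ _ _]
          rfl⟩
    refine (hG _ (closedPair_mem_Jh A a hsurj)).isSeparatedFor.ext fun V q hq => ?_
    obtain ⟨b, k, rfl⟩ := (Sieve.mem_ofArrows_iff A a q).1 hq
    have key : ∀ b, G.map (a b).op (G.map p₁.op s') = G.map (a b).op (G.map p₂.op s') := by
      intro b
      rw [← comp_apply, ← comp_apply, ← Functor.map_comp, ← Functor.map_comp, ← op_comp, ← op_comp]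
      cases b
      · have : a false ≫ p₁ = a false ≫ p₂ := Over.OverMorphism.ext (by
          have h := pullback.condition (f := d) (g := pullback.diagonal f.left)
          show c ≫ p₁.left = c ≫ p₂.left
          have h1 := congrArg (· ≫ pullback.fst f.left f.left) h
          have h2 := congrArg (· ≫ pullback.snd f.left f.left) h
          simp [d] at h1 h2
          rw [h1, h2])
        rw [this]
      · have hw : ∀ p : W ⟶ X, p ≫ f = p₁ ≫ f →
            G.map (a true ≫ p).op s' = G.map (Over.homMk (pullback.snd g i.left) (by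
              show pullback.snd g i.left ≫ Z.hom = z ≫ W.hom
              rw [← Over.w i, ← pullback.condition_assoc]
              simp [z, g]) : A true ⟶ Z).op t := by
          intro p hpe
          let l : (A true).left ⟶ E.left := hsq.lift (z ≫ p.left) (pullback.snd g i.left) (by
            rw [Category.assoc, show p.left ≫ f.left = g from congrArg Over.Hom.left hpe]
            exact pullback.condition)
          let l' : A true ⟶ E := Over.homMk l (by
            rw [← Over.w e, ← Category.assoc, hsq.lift_fst, Category.assoc, Over.w p]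
            rfl)
          have e₁ : a true ≫ p = l' ≫ e := Over.OverMorphism.ext (hsq.lift_fst _ _ _).symm
          rw [e₁, op_comp, Functor.map_comp, comp_apply, ← hts, ← comp_apply, ← Functor.map_comp, ← op_comp]
          congr 4
          exact Over.OverMorphism.ext (hsq.lift_snd _ _ _)
        rw [hw p₁ rfl, hw p₂ hp.symm]
    rw [op_comp, Functor.map_comp, comp_apply, comp_apply, key b]
  obtain ⟨s, hs, huniq⟩ := Presieve.isSheafFor_singleton.1 hf s' hcomp
  refine ⟨s, ⟨?_, hs⟩, fun s₁ h₁ => huniq _ h₁.2⟩
  refine hπ.isSeparatedFor.ext fun V q hq => ?_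
  obtain ⟨⟩ := hq
  rw [← comp_apply, ← Functor.map_comp, ← op_comp,
    show π ≫ i = e ≫ f from Over.OverMorphism.ext hsq.w.symm, op_comp, Functor.map_comp, comp_apply, hs]
  exact hts.symm

end Groth.Agent.HTopSheaf
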