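import Mathlib

/-! Sieves universally effective for a sheaf can be recognized on the objects of a base. -/

set_option autoImplicit false
set_option linter.style.haveILetI false

universe v w u t
open CategoryTheory Opposite

namespace Groth.Agent.HTopSheaf

variable {C : Type u} [Category.{v} C] {J : GrothendieckTopology C} {A : C → Prop}

/-- Every object has a covering by objects satisfying `A`. -/
def HasBase (J : GrothendieckTopology C) (A : C → Prop) : Prop :=
  ∀ X : C, ∃ (ι : Type t) (W : ι → C) (f : ∀ i, W i ⟶ X), Sieve.ofArrows W f ∈ J X ∧ ∀ i, A (W i)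

/-- Sieves all whose pullbacks satisfy the sheaf condition. -/
abbrev Fin' (G : Cᵒᵖ ⥤ Type w) : GrothendieckTopology C := Sheaf.finestTopologySingle G

variable {G : Cᵒᵖ ⥤ Type w}

theorem mem_fin_of_mem (hG : Presieve.IsSheaf J G) {X : C} {S : Sieve X} (hS : S ∈ J X) : S ∈ Fin' G X :=
  fun _ f => hG _ (J.pullback_stable f hS)

theorem isSheafFor_of_mem {X : C} {S : Sieve X} (hS : S ∈ Fin' G X) : Presieve.IsSheafFor G (S : Presieve X) := by
  simpa using hS X (𝟙 X)

theorem isSheafFor_presieve_of_mem {X : C} {R : Presieve X} (hS : Sieve.generate R ∈ Fin' G X) :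
    Presieve.IsSheafFor G R :=
  (Presieve.isSheafFor_iff_generate R).2 (isSheafFor_of_mem hS)

theorem isSeparatedFor_pullback_of_base (hG : Presieve.IsSheaf J G) (hA : HasBase.{v, u, t} J A) {X : C} (T : Sieve X)
    (H : ∀ (W : C) (g : W ⟶ X), A W → Presieve.IsSeparatedFor G (T.pullback g : Presieve W)) {V : C} (g : V ⟶ X) :
    Presieve.IsSeparatedFor G (T.pullback g : Presieve V) := by
  intro x t₁ t₂ h₁ h₂
  obtain ⟨ι, W, f, hf, hW⟩ := hA V
  refine (hG _ hf).isSeparatedFor.ext fun Y a ha => ?_
  obtain ⟨i, b, rfl⟩ := (Sieve.mem_ofArrows_iff W f a).1 ha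
  have e : G.map (f i).op t₁ = G.map (f i).op t₂ := by
    refine (H (W i) (f i ≫ g) (hW i)).ext fun Z c hc => ?_
    have hc' : (T.pullback g).arrows (c ≫ f i) := by
      simpa only [Sieve.pullback_apply, Category.assoc] using hc
    rw [← comp_apply, ← comp_apply, ← Functor.map_comp, ← op_comp]
    exact (h₁ _ hc').trans (h₂ _ hc').symm
  rw [op_comp, Functor.map_comp, comp_apply, comp_apply, e]

/-- A sieve is universally effective as soon as it is effective on the members of a base. -/
theorem mem_fin_of_base (hG : Presieve.IsSheaf J G) (hA : HasBase.{v, u, t} J A) {X : C} (T : Sieve X)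
    (H : ∀ (W : C) (g : W ⟶ X), A W → Presieve.IsSheafFor G (T.pullback g : Presieve W)) : T ∈ Fin' G X := by
  intro V g
  have sep : ∀ {U : C} (h : U ⟶ X), Presieve.IsSeparatedFor G (T.pullback h : Presieve U) :=
    fun h => isSeparatedFor_pullback_of_base hG hA T (fun W k hk => (H W k hk).isSeparatedFor) h
  intro x hx
  obtain ⟨ι, W, f, hf, hW⟩ := hA V
  have mem : ∀ {i : ι} {Z : C} (b : Z ⟶ W i), T.pullback (f i ≫ g) b → T.pullback g (b ≫ f i) :=
    fun {i Z} b hb => by simpa only [Sieve.pullback_apply, Category.assoc] using hb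
  have hx' : ∀ i, ∃ s : G.obj (op (W i)), ∀ (Z : C) (b : Z ⟶ W i) (hb : T.pullback (f i ≫ g) b),
      G.map b.op s = x _ (mem b hb) := fun i => by
    let y : Presieve.FamilyOfElements G (T.pullback (f i ≫ g) : Presieve (W i)) := fun Z b hb => x _ (mem b hb)
    have hy : y.Compatible := fun Y₁ Y₂ Z a₁ a₂ b₁ b₂ h₁ h₂ e =>
      hx a₁ a₂ (mem b₁ h₁) (mem b₂ h₂) (by rw [← Category.assoc, e, Category.assoc])
    exact ⟨(H _ (f i ≫ g) (hW i)).amalgamate y hy, fun Z b hb => Presieve.IsSheafFor.valid_glue _ hy b hb⟩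
  choose s hs using hx'
  have hcompat : Presieve.Arrows.Compatible G f s := by
    intro i j Z gi gj e
    refine (sep ((gi ≫ f i) ≫ g)).ext fun Y c hc => ?_
    have h₁ : T.pullback (f i ≫ g) (c ≫ gi) := by simpa only [Sieve.pullback_apply, Category.assoc] using hc
    have h₂ : T.pullback (f j ≫ g) (c ≫ gj) := by
      rw [e] at hc
      simpa only [Sieve.pullback_apply, Category.assoc] using hc
    rw [← comp_apply, ← comp_apply, ← Functor.map_comp, ← Functor.map_comp, ← op_comp, ← op_comp,
      hs i _ _ h₁, hs j _ _ h₂]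
    congr 1
    simp only [Category.assoc, e]
  have hfor : Presieve.IsSheafFor G (Presieve.ofArrows W f) :=
    (Presieve.isSheafFor_iff_generate _).2 (hG _ hf)
  obtain ⟨t, ht, -⟩ := (Presieve.isSheafFor_arrows_iff _ _).1 hfor s hcompat
  refine ⟨t, fun Y a ha => ?_, fun t' ht' => ?_⟩
  · refine (hG _ (J.pullback_stable a hf)).isSeparatedFor.ext fun Z b hb => ?_
    obtain ⟨i, c, hc⟩ := (Sieve.mem_ofArrows_iff W f _).1 hb
    have hca : T.pullback (f i ≫ g) c := by
      rw [Sieve.pullback_apply, ← reassoc_of% hc]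
      exact T.downward_closed ha b
    rw [← comp_apply, ← Functor.map_comp, ← op_comp, hc, op_comp, Functor.map_comp, comp_apply, ht i,
      hs i _ _ hca, ← x.comp_of_compatible _ hx ha b]
    congr 1
    exact hc.symm
  · refine hfor.isSeparatedFor.ext fun Y a ha => ?_
    obtain ⟨i⟩ := ha
    rw [ht i]
    refine (sep (f i ≫ g)).ext fun Z b hb => ?_
    rw [hs i _ _ hb, ← comp_apply, ← Functor.map_comp, ← op_comp]
    exact ht' _ (mem b hb)

/-- A sieve containing, on each member of a base, a universally effective sieve is universally effective. -/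
theorem mem_fin_of_locally (hG : Presieve.IsSheaf J G) (hA : HasBase.{v, u, t} J A) {X : C} (T : Sieve X)
    (H : ∀ (W : C) (g : W ⟶ X), A W → ∃ S ∈ Fin' G W, S ≤ T.pullback g) : T ∈ Fin' G X := by
  refine mem_fin_of_base hG hA T fun W g hW => ?_
  obtain ⟨S, hS, hle⟩ := H W g hW
  exact isSheafFor_of_mem ((Fin' G).superset_covering hle hS)

theorem pullback_singleton {X Y P V : C} (f : V ⟶ X) (g : Y ⟶ X) (a : P ⟶ V) (q : P ⟶ Y)
    (h : IsPullback a q f g) :
    (Sieve.generate (Presieve.singleton f)).pullback g = Sieve.generate (Presieve.singleton q) := by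
  ext Z k
  constructor
  · rintro ⟨W, l, m, ⟨⟩, e⟩
    exact ⟨P, h.lift l k e, q, Presieve.singleton.mk, h.lift_snd _ _ _⟩
  · rintro ⟨W, l, m, ⟨⟩, rfl⟩
    exact ⟨V, l ≫ a, f, Presieve.singleton.mk, by simp [h.w]⟩

/-- A morphism is universally effective if all its base changes to objects of the base are effective. -/
theorem singleton_mem_fin (hG : Presieve.IsSheaf J G) (hA : HasBase.{v, u, t} J A) {X V : C} (f : V ⟶ X)
    (H : ∀ (W : C) (g : W ⟶ X), A W → ∃ (P : C) (a : P ⟶ V) (q : P ⟶ W),
      IsPullback a q f g ∧ Presieve.IsSheafFor G (Presieve.singleton q)) :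
    Sieve.generate (Presieve.singleton f) ∈ Fin' G X := by
  refine mem_fin_of_base hG hA _ fun W g hW => ?_
  obtain ⟨P, a, q, h, hq⟩ := H W g hW
  rw [pullback_singleton f g a q h]
  exact (Presieve.isSheafFor_iff_generate _).1 hq

/-- A family through which a cover of an effective morphism factors is effective. -/
theorem mem_fin_of_singleton {X V : C} {T : Sieve X} (f : V ⟶ X) (hf : Sieve.generate (Presieve.singleton f) ∈ Fin' G X)
    (h : T.pullback f ∈ Fin' G V) : T ∈ Fin' G X := by
  refine (Fin' G).transitive hf T ?_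
  rintro Y _ ⟨W, l, m, ⟨⟩, rfl⟩
  rw [Sieve.pullback_comp]
  exact (Fin' G).pullback_stable l h

end Groth.Agent.HTopSheaf
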