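import Groth.Prelude.Def_HTop
import Groth.Agent.HTopSheaf.Finest
import Groth.Agent.HTopV.Sheaf

/-! The sheaf condition on schemes and on schemes over a base, checked on affine schemes. -/

set_option autoImplicit false
set_option linter.style.haveILetI false
set_option backward.isDefEq.respectTransparency false
set_option backward.isDefEq.respectTransparency.types false

universe w w' u
open CategoryTheory CategoryTheory.Limits AlgebraicGeometry Opposite

noncomputable section

namespace Groth.Agent.HTopSheaf

theorem ofArrows_affineOpens_mem (X : Scheme.{u}) :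
    Sieve.ofArrows (fun U : X.affineOpens => U.1.toScheme) (fun U => U.1.ι) ∈ Scheme.zariskiTopology X := by
  let 𝒰 := X.openCoverOfIsOpenCover (fun U : X.affineOpens => U.1) (TopologicalSpace.IsOpenCover.mk (iSup_affineOpens_eq_top X))
  exact 𝒰.mem_grothendieckTopology

theorem hasBase_scheme :
    HasBase.{u, u + 1, u} Scheme.zariskiTopology (fun X : Scheme.{u} => IsAffine X) := fun X =>
  ⟨X.affineOpens, fun U => U.1.toScheme, fun U => U.1.ι, ofArrows_affineOpens_mem X, fun U => U.2⟩

variable (S : Scheme.{u})

/-- An open subscheme of a scheme over `S`. -/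
abbrev openOver {S : Scheme.{u}} (X : Over S) (U : X.left.Opens) : Over S := Over.mk (U.ι ≫ X.hom)

/-- Its inclusion. -/
abbrev openOverι {S : Scheme.{u}} (X : Over S) (U : X.left.Opens) : openOver X U ⟶ X := Over.homMk U.ι rfl

theorem ofArrows_openOver_mem (X : Over S) :
    Sieve.ofArrows (fun U : X.left.affineOpens => openOver X U.1) (fun U => openOverι X U.1) ∈
      (Scheme.zariskiTopology.over S) X := by
  rw [GrothendieckTopology.mem_over_iff, Sieve.overEquiv_ofArrows]
  exact ofArrows_affineOpens_mem X.left

theorem hasBase_over :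
    HasBase.{u, u + 1, u} (Scheme.zariskiTopology.over S) (fun X : Over S => IsAffine X.left) := fun X =>
  ⟨X.left.affineOpens, _, _, ofArrows_openOver_mem S X, fun U => U.2⟩

variable {S}

theorem mem_fin_of_affineOpens {G : (Over S)ᵒᵖ ⥤ Type w} (hG : Presieve.IsSheaf (Scheme.zariskiTopology.over S) G)
    {X : Over S} (T : Sieve X)
    (H : ∀ U : X.left.affineOpens, T.pullback (openOverι X U.1) ∈ Fin' G (openOver X U.1)) : T ∈ Fin' G X := by
  refine (Fin' G).transitive (mem_fin_of_mem hG (ofArrows_openOver_mem S X)) T ?_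
  intro Y f hf
  obtain ⟨U, b, rfl⟩ := (Sieve.mem_ofArrows_iff _ _ f).1 hf
  rw [Sieve.pullback_comp]
  exact (Fin' G).pullback_stable b (H U)

theorem mem_fin_of_affineOpens' {G : Scheme.{u}ᵒᵖ ⥤ Type w} (hG : Presieve.IsSheaf Scheme.zariskiTopology G)
    {X : Scheme.{u}} (T : Sieve X) (H : ∀ U : X.affineOpens, T.pullback U.1.ι ∈ Fin' G U.1.toScheme) : T ∈ Fin' G X := by
  refine (Fin' G).transitive (mem_fin_of_mem hG (ofArrows_affineOpens_mem X)) T ?_
  intro Y f hf
  obtain ⟨U, b, rfl⟩ := (Sieve.mem_ofArrows_iff _ _ f).1 hf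
  rw [Sieve.pullback_comp]
  exact (Fin' G).pullback_stable b (H U)

theorem generate_presieve₀_le {C : Type*} [Category C] {X Y : C} (E : PreZeroHypercover.{w} X)
    (F : PreZeroHypercover.{w'} Y) (g : Y ⟶ X) (h : ∀ j, ∃ (i : E.I₀) (k : F.X j ⟶ E.X i), k ≫ E.f i = F.f j ≫ g) :
    Sieve.generate F.presieve₀ ≤ (Sieve.generate E.presieve₀).pullback g := by
  rw [Sieve.generate_le_iff, Presieve.ofArrows_le_iff]
  intro j
  obtain ⟨i, k, hk⟩ := h j
  exact ⟨_, k, E.f i, ⟨i⟩, hk⟩

/-- A jointly surjective family of open immersions generates a Zariski covering sieve. -/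
theorem ofArrows_openImmersion_mem {X : Scheme.{u}} {ι : Type w'} (W : ι → Scheme.{u}) (f : ∀ i, W i ⟶ X)
    [∀ i, IsOpenImmersion (f i)] (h : ∀ x : X, ∃ i, x ∈ Set.range (f i)) :
    Sieve.ofArrows W f ∈ Scheme.zariskiTopology X := by
  choose i hi using h
  refine Scheme.zariskiTopology.superset_covering ?_
    (Scheme.Cover.mem_grothendieckTopology ({ I₀ := X, X := fun x => W (i x), f := fun x => f (i x)
                                              mem₀ := by
                                                rw [Scheme.ofArrows_mem_precoverage_iff]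
                                                exact ⟨fun x => ⟨x, hi x⟩, inferInstance⟩ } : X.OpenCover))
  rw [Sieve.generate_le_iff, Presieve.ofArrows_le_iff]
  exact fun x => Sieve.ofArrows_mk _ _ (i x)

section Saturate

variable {G : (Over S)ᵒᵖ ⥤ Type w}

/-- The sieves on schemes all whose pullbacks to schemes over `S` are universally effective contain the topology
generated by a precoverage as soon as they contain its coverings. -/
theorem overEquiv_symm_mem_fin {K : Precoverage Scheme.{u}}
    (H : ∀ ⦃X : Scheme.{u}⦄ (R : Presieve X), R ∈ K X → ∀ (Y : Over S) (f : Y.left ⟶ X),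
      (Sieve.overEquiv Y).symm ((Sieve.generate R).pullback f) ∈ Fin' G Y)
    {X : Scheme.{u}} {T : Sieve X} (hT : T ∈ K.toGrothendieck X) (Y : Over S) (f : Y.left ⟶ X) :
    (Sieve.overEquiv Y).symm (T.pullback f) ∈ Fin' G Y := by
  induction hT generalizing Y with
  | of X R hR => exact H R hR Y f
  | top X => rw [Sieve.pullback_top, map_top]; exact (Fin' G).top_mem _
  | pullback X T _ Z g ih => rw [← Sieve.pullback_comp]; exact ih Y (f ≫ g)
  | transitive X R T _ _ ih ih' =>
    refine (Fin' G).transitive (ih Y f) _ fun Z h hh => ?_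
    rw [← Sieve.overEquiv_symm_pullback, ← Sieve.pullback_comp]
    simpa using ih' ((Sieve.overEquiv_symm_iff _ h).1 hh) Z (𝟙 Z.left)

/-- A sheaf for the topology generated by a precoverage, once its coverings are universally effective. -/
theorem isSheaf_over_toGrothendieck {K : Precoverage Scheme.{u}}
    (H : ∀ ⦃X : Scheme.{u}⦄ (R : Presieve X), R ∈ K X → ∀ (Y : Over S) (f : Y.left ⟶ X),
      (Sieve.overEquiv Y).symm ((Sieve.generate R).pullback f) ∈ Fin' G Y) :
    Presieve.IsSheaf (K.toGrothendieck.over S) G := fun X T hT => by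
  refine isSheafFor_of_mem ?_
  simpa using overEquiv_symm_mem_fin H hT X (𝟙 X.left)

end Saturate

/-- The covering presieves of a family of schemes over `S`. -/
theorem overEquiv_symm_generate_ofArrows {Y : Over S} {ι : Type w'} (W : ι → Scheme.{u}) (f : ∀ i, W i ⟶ Y.left) :
    (Sieve.overEquiv Y).symm (Sieve.ofArrows W f) =
      Sieve.ofArrows (fun i => Over.mk (f i ≫ Y.hom)) (fun i => (Over.homMk (f i) rfl : Over.mk (f i ≫ Y.hom) ⟶ Y)) := by
  rw [OrderIso.symm_apply_eq, Sieve.overEquiv_ofArrows]
  rfl

/-- The family of schemes underlying the arrows of a presieve. -/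
def presieveFamily {X : Over S} (R : Presieve X) : PreZeroHypercover.{u + 1} X.left where
  I₀ := Σ Y : Over S, {f : Y ⟶ X // R f}
  X i := i.1.left
  f i := i.2.1.left

theorem presieveFamily_presieve₀ {X : Over S} (R : Presieve X) :
    (presieveFamily R).presieve₀ = R.map (Over.forget S) := by
  funext Y g
  refine propext ?_
  constructor
  · rintro ⟨⟨Z, f, hf⟩⟩
    exact Presieve.map_map hf
  · rintro ⟨hf⟩
    exact Presieve.ofArrows.mk (⟨_, _, hf⟩ : Σ Y : Over S, {f : Y ⟶ X // R f})

theorem overEquiv_generate_presieve {X : Over S} (R : Presieve X) :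
    Sieve.overEquiv X (Sieve.generate R) = Sieve.generate (R.map (Over.forget S)) := by
  rw [Sieve.generate_map_eq_functorPushforward]
  rfl

end Groth.Agent.HTopSheaf
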