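import Groth.Agent.HTopSheaf.Over

/-! The ph sheaf property of a presheaf on all schemes. -/

set_option autoImplicit false
set_option linter.style.haveILetI false
set_option backward.isDefEq.respectTransparency false
set_option backward.isDefEq.respectTransparency.types false

universe w u
open CategoryTheory CategoryTheory.Limits AlgebraicGeometry Opposite

noncomputable section

namespace Groth.Agent.HTopSheaf

variable {F : Scheme.{u}ᵒᵖ ⥤ Type w}

theorem isPhSheaf_of (h₁ : Presieve.IsSheaf Scheme.zariskiTopology F)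
    (h₂ : ∀ (U V : Scheme.{u}) (f : V ⟶ U), IsProper f → Surjective f →
      Presieve.IsSheafFor F (Presieve.singleton f)) : HTop.IsPhSheaf F := by
  intro X R hR
  obtain ⟨E, hE, rfl⟩ := (PreZeroHypercoverFamily.mem_precoverage_iff).mp hR
  refine isSheafFor_presieve_of_mem (mem_fin_of_affineOpens' h₁ _ fun U => ?_)
  obtain ⟨G, hG, hr⟩ := hE.2 U
  obtain ⟨P, g, ι, hg, hgs, hι, hfac, hcov⟩ := hG.exists_proper
  haveI := hg
  haveI := hgs
  haveI := hι
  have hmem : Sieve.generate (Presieve.singleton g) ∈ Fin' F U.1.toScheme :=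
    singleton_mem_fin h₁ hasBase_scheme g fun W k _ =>
      ⟨pullback g k, pullback.fst g k, pullback.snd g k, IsPullback.of_hasPullback _ _, h₂ W _ _
        (MorphismProperty.pullback_snd (P := @IsProper) _ _ ‹_›)
        (MorphismProperty.pullback_snd (P := @Surjective) _ _ ‹_›)⟩
  refine mem_fin_of_singleton g hmem ((Fin' F).superset_covering ?_
    (mem_fin_of_mem h₁ (ofArrows_openImmersion_mem G.X ι hcov)))
  rw [Sieve.generate_le_iff, Presieve.ofArrows_le_iff]
  intro j
  obtain ⟨i, k, hk⟩ := hr j
  refine ⟨_, k, E.f i, ⟨i⟩, ?_⟩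
  rw [hk, ← hfac j, Category.assoc]

end Groth.Agent.HTopSheaf
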