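import Groth.Agent.HTopSheaf.Criteria

/-! A limit preserving h sheaf is a V sheaf. -/

set_option autoImplicit false
set_option linter.style.haveILetI false
set_option backward.isDefEq.respectTransparency false
set_option backward.isDefEq.respectTransparency.types false

universe w w' u
open CategoryTheory CategoryTheory.Limits AlgebraicGeometry Opposite

noncomputable section

namespace Groth.Agent.HTopSheaf

open Groth.Agent.HTopV Groth.Agent.HTopPh

variable {S : Scheme.{u}} {G : (Over S)ᵒᵖ ⥤ Type w}

theorem isSheafFor_of_isHCover (h₁ : HTop.IsHSheafOver S G) {X : Over S} (R : Presieve X)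
    (E : PreZeroHypercover.{w'} X.left) (hE : HTop.IsHCover E) (h : R.map (Over.forget S) = E.presieve₀) :
    Presieve.IsSheafFor G R :=
  h₁ R (by rw [h]; exact (HTop.presieve₀_mem_hPrecoverage_iff E).2 hE)

theorem singleton_isSheafFor_of_isHCover (h₁ : HTop.IsHSheafOver S G) {X V : Over S} (f : V ⟶ X)
    (hE : HTop.IsHCover (PreZeroHypercover.singleton.{0} f.left)) : Presieve.IsSheafFor G (Presieve.singleton f) :=
  isSheafFor_of_isHCover h₁ _ _ hE (by
    rw [Presieve.map_singleton, PreZeroHypercover.presieve₀_singleton]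
    rfl)

theorem isSeparatedFor_mono {C : Type*} [Category C] {F : Cᵒᵖ ⥤ Type w} {X : C} {R R' : Presieve X} (h : R ≤ R')
    (hR : Presieve.IsSeparatedFor F R) : Presieve.IsSeparatedFor F R' :=
  fun _ t₁ t₂ h₁ h₂ => hR.ext fun _ _ hf => (h₁ _ (h _ _ hf)).trans (h₂ _ (h _ _ hf)).symm

theorem isSheaf_zariski_of_isHSheafOver (h₁ : HTop.IsHSheafOver S G) :
    Presieve.IsSheaf (Scheme.zariskiTopology.over S) G := by
  have key : ∀ {X : Over S} {T : Sieve X}, T ∈ (Scheme.zariskiTopology.over S) X →
      ∃ R : Presieve X, Presieve.IsSheafFor G R ∧ R ≤ T ∧ Sieve.generate R ∈ (Scheme.zariskiTopology.over S) X := by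
    intro X T hT
    obtain ⟨R₀, hR₀, hle⟩ := Precoverage.mem_toGrothendieck_iff_of_isStableUnderComposition.1
      ((GrothendieckTopology.mem_over_iff _ _).1 hT)
    obtain ⟨𝒰, rfl⟩ := Precoverage.mem_iff_exists_zeroHypercover.1 hR₀
    refine ⟨Presieve.ofArrows (fun i => Over.mk (𝒰.f i ≫ X.hom))
      (fun i => (Over.homMk (𝒰.f i) rfl : Over.mk (𝒰.f i ≫ X.hom) ⟶ X)), ?_, ?_, ?_⟩
    · exact isSheafFor_of_isHCover h₁ _ 𝒰.toPreZeroHypercover (isHCover_openCover 𝒰) (Presieve.map_ofArrows _)
    · rintro Y g ⟨i⟩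
      exact (Sieve.overEquiv_iff T (𝒰.f i)).1 (hle _ _ ⟨i⟩)
    · rw [GrothendieckTopology.mem_over_iff]
      show Sieve.overEquiv X (Sieve.ofArrows _ _) ∈ _
      rw [Sieve.overEquiv_ofArrows]
      exact Scheme.Cover.mem_grothendieckTopology 𝒰
  intro X T hT
  obtain ⟨R, hR, hle, hgen⟩ := key hT
  refine Presieve.isSheafFor_subsieve_aux G (S := Sieve.generate R) ((Sieve.generate_le_iff _ _).2 hle)
    ((Presieve.isSheafFor_iff_generate R).1 hR) fun Y f _ => ?_
  obtain ⟨R', hR', hle', -⟩ := key ((Scheme.zariskiTopology.over S).pullback_stable f hgen)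
  exact isSeparatedFor_mono hle' hR'.isSeparatedFor

/-- Descent along standard V singletons for limit preserving h sheaves. -/
theorem isSheafFor_of_isStandardV (h₁ : HTop.IsHSheafOver S G)
    (h₂ : ∀ (I : Type u) [SmallCategory I] [IsCofiltered I] (D : I ⥤ Over S),
      (∀ i, IsAffine (D.obj i).left) → ∀ (c : Cone D), IsLimit ((Over.forget S).mapCone c) →
        Nonempty (IsColimit (G.mapCocone c.op)))
    {U V : Over S} [IsAffine U.left] [IsAffine V.left] (f : V ⟶ U)
    (hf : HTop.HasValLift (PreZeroHypercover.singleton.{0} f.left)) :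
    Presieve.IsSheafFor G (Presieve.singleton f) := by
  obtain ⟨I, _, _, D, c, hc, e, ha, hl⟩ := exists_lfp_system f.left
  haveI := ha
  haveI := hl
  let D' : I ⥤ Over S := D ⋙ Over.map U.hom
  let p : ∀ i, D'.obj i ⟶ U := fun i => Over.homMk (D.obj i).hom rfl
  have hsh : ∀ i, Presieve.IsSheafFor G (Presieve.singleton (p i)) := fun i =>
    singleton_isSheafFor_of_isHCover h₁ (p i) (isHCover_singleton (D.obj i).hom
      (hasValLift_comp f.left (e.inv.left ≫ (c.π.app i).left) _ (by
        rw [Category.assoc, Over.w]; exact Over.w e.inv) hf))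
  let c' : Cone D' :=
    { pt := V
      π :=
        { app := fun i => Over.homMk (e.inv.left ≫ (c.π.app i).left) (by
            show (e.inv.left ≫ (c.π.app i).left) ≫ (D.obj i).hom ≫ U.hom = V.hom
            rw [← Category.assoc, Category.assoc _ _ (D.obj i).hom, Over.w]
            exact (congrArg (· ≫ U.hom) (Over.w e.inv)).trans (Over.w f))
          naturality := fun i j h => Over.OverMorphism.ext (by
            show 𝟙 _ ≫ e.inv.left ≫ (c.π.app j).left = (e.inv.left ≫ (c.π.app i).left) ≫ (D.map h).left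
            rw [Category.id_comp, Category.assoc, ← c.w h]; rfl) } }
  have hc' : IsLimit ((Over.forget S).mapCone c') :=
    IsLimit.ofIsoLimit hc (Cone.ext ((Over.forget _).mapIso e) fun i => by
      show (c.π.app i).left = e.hom.left ≫ e.inv.left ≫ (c.π.app i).left
      rw [← reassoc_of% Over.comp_left, e.hom_inv_id]; simp)
  have hp : ∀ i, c'.π.app i ≫ p i = f := fun i => Over.OverMorphism.ext (by
    show (e.inv.left ≫ (c.π.app i).left) ≫ (D.obj i).hom = f.left
    rw [Category.assoc, Over.w]; exact Over.w e.inv)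
  obtain ⟨hG⟩ := h₂ I D' ha c' hc'
  have hpD : ∀ {i j} (h : i ⟶ j), D'.map h ≫ p j = p i := fun h => Over.OverMorphism.ext (Over.w (D.map h))
  -- uniqueness
  have huniq : ∀ y y' : G.obj (op U), G.map f.op y = G.map f.op y' → y = y' := by
    intro y y' hy
    obtain ⟨i⟩ := IsCofiltered.nonempty (C := I)
    rw [← hp i, op_comp, Functor.map_comp, comp_apply, comp_apply] at hy
    obtain ⟨k, a, ha'⟩ := (Types.FilteredColimit.isColimit_eq_iff' hG _ _).1 hy
    refine (hsh k.unop).isSeparatedFor.ext fun Y q hq => ?_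
    obtain ⟨⟩ := hq
    rw [← hpD a.unop, op_comp, Functor.map_comp, comp_apply, comp_apply]
    exact ha'
  rw [Presieve.isSheafFor_singleton]
  intro x hx
  obtain ⟨⟨i⟩, xi, hxi⟩ := Types.jointly_surjective _ hG x
  -- the system of the squares over stages below `i`
  let P : I ⥤ Over S :=
    { obj := fun k => Over.mk (pullback.fst (D.obj k).hom (D.obj k).hom ≫ (D.obj k).hom ≫ U.hom)
      map := fun {k l} h => Over.homMk (pullback.map _ _ _ _ (D.map h).left (D.map h).left (𝟙 _) (by simp) (by simp))
        (by simp [pullback.map])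
      map_id := fun k => Over.OverMorphism.ext (by apply pullback.hom_ext <;> simp [pullback.map])
      map_comp := fun h h' => Over.OverMorphism.ext (by apply pullback.hom_ext <;> simp [pullback.map]) }
  let W : Over S := Over.mk (pullback.fst f.left f.left ≫ V.hom)
  have hπ : ∀ k, (c'.π.app k).left ≫ (D.obj k).hom = f.left := fun k => congrArg Over.Hom.left (hp k)
  let cP : Cone P :=
    { pt := W
      π :=
        { app := fun k => Over.homMk (pullback.map _ _ _ _ (c'.π.app k).left (c'.π.app k).left (𝟙 _)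
              (by rw [hπ k, Category.comp_id]) (by rw [hπ k, Category.comp_id])) (by
            simp only [P, W, pullback.map, Over.mk_hom, pullback.lift_fst_assoc, Category.assoc, reassoc_of% hπ k]
            rw [Over.w f]; rfl)
          naturality := fun k l h => Over.OverMorphism.ext (by
            have := congrArg Over.Hom.left (c'.w h)
            apply pullback.hom_ext <;> simp [P, pullback.map, ← this] <;> rfl) } }
  let fstC : ∀ s : Cone (P ⋙ Over.forget S), Cone (D' ⋙ Over.forget S) := fun s =>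
    { pt := s.pt
      π :=
        { app := fun k => s.π.app k ≫ pullback.fst _ _
          naturality := fun k l h => by
            rw [← s.w h]; simp [P, D', pullback.map] } }
  let sndC : ∀ s : Cone (P ⋙ Over.forget S), Cone (D' ⋙ Over.forget S) := fun s =>
    { pt := s.pt
      π :=
        { app := fun k => s.π.app k ≫ pullback.snd _ _
          naturality := fun k l h => by
            rw [← s.w h]; simp [P, D', pullback.map] } }
  have e1 : ∀ (s : Cone (D' ⋙ Over.forget S)) (k : I), hc'.lift s ≫ f.left = s.π.app k ≫ (D.obj k).hom := fun s k => by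
    rw [← hπ k, ← Category.assoc]
    exact congrArg (· ≫ _) (hc'.fac s k)
  have hcP : IsLimit ((Over.forget S).mapCone cP) :=
    { lift := fun s => pullback.lift (hc'.lift (fstC s)) (hc'.lift (sndC s)) (by
        rw [e1 _ i, e1 _ i]
        simp [fstC, sndC, pullback.condition])
      fac := fun s k => by
        apply pullback.hom_ext
        · simp only [cP, Functor.mapCone_π_app, Over.forget_map, Over.homMk_left, pullback.map, Category.assoc,
            pullback.lift_fst, pullback.lift_fst_assoc]
          exact hc'.fac (fstC s) k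
        · simp only [cP, Functor.mapCone_π_app, Over.forget_map, Over.homMk_left, pullback.map, Category.assoc,
            pullback.lift_snd, pullback.lift_snd_assoc]
          exact hc'.fac (sndC s) k
      uniq := fun s m hm => by
        apply pullback.hom_ext
        · rw [pullback.lift_fst]
          refine hc'.uniq (fstC s) _ fun k => ?_
          show (m ≫ pullback.fst _ _) ≫ (c'.π.app k).left = s.π.app k ≫ pullback.fst _ _
          rw [← hm k]; simp [cP, pullback.map]
        · rw [pullback.lift_snd]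
          refine hc'.uniq (sndC s) _ fun k => ?_
          show (m ≫ pullback.snd _ _) ≫ (c'.π.app k).left = s.π.app k ≫ pullback.snd _ _
          rw [← hm k]; simp [cP, pullback.map] }
  haveI : ∀ k, IsAffine (P.obj k).left := fun k => inferInstanceAs (IsAffine (pullback _ _))
  obtain ⟨hP⟩ := h₂ I P inferInstance cP hcP
  let q₁ : ∀ k, P.obj k ⟶ D'.obj k := fun k => Over.homMk (pullback.fst _ _) rfl
  let q₂ : ∀ k, P.obj k ⟶ D'.obj k := fun k => Over.homMk (pullback.snd _ _) (by
    show pullback.snd _ _ ≫ (D.obj k).hom ≫ U.hom = pullback.fst _ _ ≫ (D.obj k).hom ≫ U.hom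
    rw [pullback.condition_assoc])
  let r₁ : W ⟶ V := Over.homMk (pullback.fst _ _) rfl
  let r₂ : W ⟶ V := Over.homMk (pullback.snd _ _) (by
    show pullback.snd _ _ ≫ V.hom = pullback.fst _ _ ≫ V.hom
    rw [← Over.w f, pullback.condition_assoc])
  have hq₁ : cP.π.app i ≫ q₁ i = r₁ ≫ c'.π.app i := Over.OverMorphism.ext (by simp [cP, q₁, r₁, pullback.map])
  have hq₂ : cP.π.app i ≫ q₂ i = r₂ ≫ c'.π.app i := Over.OverMorphism.ext (by simp [cP, q₂, r₂, pullback.map])
  have hi : G.map (cP.π.app i).op (G.map (q₁ i).op xi) = G.map (cP.π.app i).op (G.map (q₂ i).op xi) := by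
    rw [← comp_apply, ← Functor.map_comp, ← op_comp, ← comp_apply, ← Functor.map_comp, ← op_comp, hq₁, hq₂,
      op_comp, op_comp, Functor.map_comp, Functor.map_comp, comp_apply, comp_apply]
    exact (congrArg _ hxi).trans ((hx r₁ r₂ (Over.OverMorphism.ext pullback.condition)).trans (congrArg _ hxi).symm)
  obtain ⟨⟨k⟩, a, hak⟩ := (Types.FilteredColimit.isColimit_eq_iff' hP _ _).1 hi
  let b : k ⟶ i := a.unop
  have hak' : G.map (P.map b).op (G.map (q₁ i).op xi) = G.map (P.map b).op (G.map (q₂ i).op xi) := hak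
  let xk := G.map (D'.map b).op xi
  have hxk : G.map (c'.π.app k).op xk = x := by
    rw [← comp_apply, ← Functor.map_comp, ← op_comp, c'.w b]; exact hxi
  obtain ⟨y, hy, -⟩ := Presieve.isSheafFor_singleton.1 (hsh k) xk (fun {Z} p₁ p₂ hp' => by
    let l : Z ⟶ P.obj k := Over.homMk (pullback.lift p₁.left p₂.left (congrArg Over.Hom.left hp')) (by
      show pullback.lift _ _ _ ≫ pullback.fst _ _ ≫ (D.obj k).hom ≫ U.hom = Z.hom
      rw [pullback.lift_fst_assoc]
      exact Over.w p₁)
    have h1 : p₁ ≫ D'.map b = l ≫ P.map b ≫ q₁ i := Over.OverMorphism.ext (by simp [l, P, q₁, D', pullback.map])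
    have h2 : p₂ ≫ D'.map b = l ≫ P.map b ≫ q₂ i := Over.OverMorphism.ext (by simp [l, P, q₂, D', pullback.map])
    simp only [xk, ← comp_apply, ← Functor.map_comp, ← op_comp, h1, h2]
    simp only [op_comp, Functor.map_comp, comp_apply, hak'])
  refine ⟨y, ?_, fun y' hy' => huniq _ _ (hy'.trans ?_)⟩
  · simp only [← hp k, op_comp, Functor.map_comp, comp_apply, hy]; exact hxk
  · simp only [← hp k, op_comp, Functor.map_comp, comp_apply, hy]; exact hxk.symm

theorem isVSheafOver_of_limitPreserving (h₁ : HTop.IsHSheafOver S G)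
    (h₂ : ∀ (I : Type u) [SmallCategory I] [IsCofiltered I] (D : I ⥤ Over S),
      (∀ i, IsAffine (D.obj i).left) → ∀ (c : Cone D), IsLimit ((Over.forget S).mapCone c) →
        Nonempty (IsColimit (G.mapCocone c.op))) : HTop.IsVSheafOver S G := by
  have hG := isSheaf_zariski_of_isHSheafOver h₁
  intro X R hR
  rw [← presieveFamily_presieve₀, HTop.presieve₀_mem_vPrecoverage_iff] at hR
  refine isSheafFor_presieve_of_mem (mem_fin_of_affineOpens hG _ fun U => ?_)
  obtain ⟨F, hF, hr⟩ := hR U
  haveI := hF.finite_index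
  haveI : IsAffine (U.1 : Scheme.{u}) := U.2
  haveI := hF.isAffine_obj
  let F' : PreZeroHypercover.{u} U.1.toScheme := F.reindex Equiv.ulift
  have hF' : HTop.IsStandardV F' := isStandardV_reindex hF _
  haveI := hF'.finite_index
  haveI := hF'.isAffine_obj
  let Z : Over S := openOver X U.1
  let P : Over S := Over.mk (Limits.Sigma.desc F'.f ≫ Z.hom)
  let q : P ⟶ Z := Over.homMk (Limits.Sigma.desc F'.f) rfl
  have hq : Sieve.generate (Presieve.singleton q) ∈ Fin' G Z := by
    refine singleton_mem_fin hG (hasBase_over S) q fun W g hW => ?_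
    haveI : IsAffine W.left := hW
    haveI : IsAffine P.left := inferInstanceAs (IsAffine (∐ F'.X))
    haveI : IsAffine Z.left := U.2
    let Q : Over S := Over.mk (pullback.snd q.left g.left ≫ W.hom)
    let a : Q ⟶ P := Over.homMk (pullback.fst q.left g.left) (by
      show pullback.fst q.left g.left ≫ P.hom = pullback.snd q.left g.left ≫ W.hom
      rw [← Over.w q, pullback.condition_assoc, Over.w g])
    let r : Q ⟶ W := Over.homMk (pullback.snd q.left g.left) rfl
    haveI : IsAffine Q.left := inferInstanceAs (IsAffine (pullback q.left g.left))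
    refine ⟨Q, a, r, isPullback_over q g a r (IsPullback.of_hasPullback _ _), ?_⟩
    refine isSheafFor_of_isStandardV h₁ h₂ r ?_
    intro V _ _ h
    obtain ⟨V', hd, hv, φ, hφ, j, l, hl⟩ := (isStandardV_sigmaDesc.{0} hF').lift V (h ≫ g.left)
    refine ⟨V', hd, hv, φ, hφ, PUnit.unit, pullback.lift l (Spec.map φ ≫ h)
      (by rw [Category.assoc]; exact hl), ?_⟩
    exact pullback.lift_snd _ _ _
  refine mem_fin_of_singleton q hq ((Fin' G).superset_covering ?_ (mem_fin_of_mem hG
    (?_ : Sieve.ofArrows (fun j => Over.mk (Limits.Sigma.ι F'.X j ≫ P.hom))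
      (fun j => (Over.homMk (Limits.Sigma.ι F'.X j) rfl : Over.mk (Limits.Sigma.ι F'.X j ≫ P.hom) ⟶ P)) ∈
        (Scheme.zariskiTopology.over S) P)))
  · rw [Sieve.generate_le_iff, Presieve.ofArrows_le_iff]
    intro j
    obtain ⟨⟨Y, m, hm⟩, k, hk⟩ := hr j.down
    refine ⟨Y, Over.homMk k ?_, m, hm, Over.OverMorphism.ext ?_⟩
    · show k ≫ Y.hom = Limits.Sigma.ι F'.X j ≫ Limits.Sigma.desc F'.f ≫ U.1.ι ≫ X.hom
      rw [Limits.Sigma.ι_desc_assoc, ← Over.w m]
      exact (Category.assoc _ _ _).symm.trans ((congrArg (· ≫ X.hom) hk).trans (Category.assoc _ _ _))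
    · show k ≫ m.left = (Limits.Sigma.ι F'.X j ≫ Limits.Sigma.desc F'.f) ≫ U.1.ι
      rw [Limits.Sigma.ι_desc]
      exact hk
  · rw [GrothendieckTopology.mem_over_iff, Sieve.overEquiv_ofArrows]
    haveI : ∀ j, IsOpenImmersion (Limits.Sigma.ι F'.X j) := fun j => inferInstance
    exact ofArrows_openImmersion_mem F'.X (fun j => Limits.Sigma.ι F'.X j) fun x => by
      obtain ⟨j, y, hy⟩ := (sigmaOpenCover F'.X).exists_eq x
      exact ⟨j, y, hy⟩

end Groth.Agent.HTopSheaf
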